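import Groth.Prelude.Def_Curve
import Groth.Agent.VB5.Vanish
import Groth.Agent.VB5.Sections
import Groth.Agent.VB5.Twist
import Groth.Agent.H8Res.TensorEpi
import Groth.Agent.Dual22Lib.ShSymm
import Groth.Agent.Coherent.CohBC.TwistBC
import Groth.Agent.KTop28.Basic
import Groth.Agent.Coherent.TensorQcoh
import Groth.Agent.VarietyLib.DivisorCut
import Groth.Agent.FlatMor12.IdealModGen
import Groth.Agent.SerreDual.Trace
import Groth.Agent.AbVarLib.AlgClosedIntegral
import Groth.Agent.CurveRR24.Section
import Groth.Agent.VarietyLib.Dual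

/-!
# Vanishing of `H¹(T(-E))` from surjectivity of restriction to a divisor
-/

set_option autoImplicit false
set_option linter.style.haveILetI false
set_option linter.unusedSectionVars false
set_option backward.isDefEq.respectTransparency.types false

universe u

open CategoryTheory CategoryTheory.Limits AlgebraicGeometry Opposite TopologicalSpace MonoidalCategory
open Groth.Agent.Coherent Groth.Agent.PicLib Groth.Agent.AmpleLib Groth.Agent.EulerLib Groth.Agent.CurveRR24

namespace Groth.Agent.CurveDual27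

variable {X : Scheme.{u}}

theorem epi_tensorMap_left {M M' : X.Modules} (p : M ⟶ M') [Epi p] (N : X.Modules) :
    Epi (tensorMap p (𝟙 N)) := by
  have h := Dual22Lib.ShSymm.tensorComm_nat₁ p N
  rw [Coherent.CohBC.tensorBi_map_eq_tensorMap] at h
  haveI := H8Res.epi_tensor_map N p
  haveI : Epi (tensorMap p (𝟙 N) ≫ (tensorComm M' N).hom) := by
    erw [h]; exact epi_comp' inferInstance (H8Res.epi_tensor_map N p)
  rw [show tensorMap p (𝟙 N) = (tensorMap p (𝟙 N) ≫ (tensorComm M' N).hom) ≫ (tensorComm M' N).inv by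
    rw [Category.assoc, Iso.hom_inv_id, Category.comp_id]]
  infer_instance

theorem tensorMap_exchange {M M' N N' : X.Modules} (p : M ⟶ M') (q : N ⟶ N') :
    tensorMap p (𝟙 N) ≫ tensorMap (𝟙 M') q = tensorMap (𝟙 M) q ≫ tensorMap p (𝟙 N') :=
  AmpleLib.hom_ext fun U a b => by
    refine ((congrArg ((tensorMap (𝟙 M') q).app U) (tensorMap_tmul p (𝟙 N) a b)).trans
      (tensorMap_tmul (𝟙 M') q (p.app U a) b)).trans ?_
    exact ((congrArg ((tensorMap p (𝟙 N')).app U) (tensorMap_tmul (𝟙 M) q a b)).trans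
      (tensorMap_tmul p (𝟙 N') a (q.app U b))).symm

theorem tensorBi_obj_map_eq (M : X.Modules) {N N' : X.Modules} (q : N ⟶ N') :
    ((DCoh.tensorBi (X := X)).obj M).map q = tensorMap (𝟙 M) q :=
  AmpleLib.hom_ext fun U a b =>
    (DCat.PullTensor.tensorBi_obj_map_tmul q U a b).trans (tensorMap_tmul (𝟙 M) q a b).symm

variable (k : Type u) [Field k] [X.Over (Spec (CommRingCat.of k))]
  [IsProper (X ↘ Spec (CommRingCat.of k))] [Smooth (X ↘ Spec (CommRingCat.of k))]
  [IsIntegral X] [GeometricallyIntegral (X ↘ Spec (CommRingCat.of k))]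
  (hdim : topologicalKrullDim X = 1)

include hdim in
/-- A quotient bundle map `T → M` with surjective restriction to `D` bounds `h⁰(M)` below by `deg D`. -/
theorem le_h0_of_restrict_surjective {T M : X.Modules} (hT : Coh.IsCoh T) (hM : PicF.IsInvertible M)
    (p : T ⟶ M) [Epi p] (D : X.IdealSheafData) (hη : genericPoint X ∉ (D.support : Set X))
    (hsurj : Function.Surjective (SerreDual.hmap k (tensorMap (𝟙 T) (ClSub.toSubscheme D)) 0)) :
    Module.finrank k (Coh.HH X (ClSub.quotMod D) 0) ≤ Module.finrank k (Coh.HH X M 0) := by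
  haveI := CurveRR24.isLocallyNoetherian_of_proper k (X := X)
  haveI := EulerLib.isNoetherian_of_proper k (X := X)
  let Q := ClSub.quotMod D
  let O := Coh.structureModule X
  let π : CohB1.tensorMod T Q ⟶ CohB1.tensorMod M Q := tensorMap p (𝟙 Q)
  haveI : Epi π := epi_tensorMap_left p Q
  have hQ := isCoh_quotMod D
  have hTQ : Coh.IsQCoh (CohB1.tensorMod T Q) := by
    haveI := hT.1
    haveI := hQ.1
    exact Coherent.isQCoh_tensorMod T Q
  have hMQ : Coh.IsQCoh (CohB1.tensorMod M Q) := by
    haveI := AmpleLib.isQCoh_of_isInvertible hM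
    haveI := hQ.1
    exact Coherent.isQCoh_tensorMod M Q
  have hK : Coh.IsQCoh (kernel π) := by
    haveI := hTQ
    haveI := hMQ
    exact Coherent.isQCoh_kernel π
  have hsuppK : CohB1.support (kernel π) ⊆ (D.support : Set X) := by
    intro x hx
    refine support_quotMod_subset D (KTop28.support_tensorMod_subset T Q ?_)
    refine fun hs => hx ?_
    haveI : Mono ((DerSch.stalkFunctor X x).map (kernel.ι π)) := inferInstance
    haveI : Subsingleton ((DerSch.stalkFunctor X x).obj (CohB1.tensorMod T Q)) := hs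
    exact ((ModuleCat.mono_iff_injective ((DerSch.stalkFunctor X x).map (kernel.ι π))).1 inferInstance).subsingleton
  have h1 : Subsingleton (Coh.HH X (kernel π) (0 + 1)) :=
    subsingleton_HH_of_small k hdim.le hK D.support.2 hη hsuppK (Nat.succ_pos 0)
  have hπs : Function.Surjective (SerreDual.hmap k π 0) :=
    SerreDual.hmap_surjective_of_shortExact k (EulerLib.shortExact_kernel π) 0 h1
  have h2 : Function.Surjective (SerreDual.hmap k (tensorMap (𝟙 M) (ClSub.toSubscheme D)) 0) := by
    have h := hπs.comp hsurj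
    rw [← LinearMap.coe_comp, ← SerreDual.hmap_comp, ← tensorMap_exchange, SerreDual.hmap_comp,
      LinearMap.coe_comp] at h
    exact h.of_comp
  let e : CohB1.tensorMod M O ≅ M := tensorComm M O ≪≫ unitTensorIso M
  haveI := finite_HH_of_isCoh k (isCoh_of_isInvertible k hM) 0
  haveI : Module.Finite k (Coh.HH X (CohB1.tensorMod M O) 0) :=
    finite_HH_of_isCoh k (VB5.isCoh_of_line (KLLib.isInvertible_of_iso e.symm hM)) 0
  have hle := LinearMap.finrank_le_finrank_of_surjective (f := SerreDual.hmap k (tensorMap (𝟙 M) (ClSub.toSubscheme D)) 0) h2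
  rw [finrank_HH_congr k e 0, finrank_HH_congr k (tensorComm M Q) 0] at hle
  have heq := euler_twist_of_small k hQ hM
    (lt_of_le_of_lt (dim_mono (support_quotMod_subset D)) (closed_small k hdim.le D.support.2 hη).2.2)
  rw [euler_eq_h0_of_small k hdim.le hQ.1 D.support.2 hη (support_quotMod_subset D),
    euler_eq_h0_of_small k hdim.le (EulerLib.isCoh_twist hM hQ).1 D.support.2 hη
      (by rw [EulerLib.support_twist hM]; exact support_quotMod_subset D)] at heq
  have h4 : Module.finrank k (Coh.HH X (CohB1.tensorMod (ClSub.quotMod D) M) 0) =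
      Module.finrank k (Coh.HH X (ClSub.quotMod D) 0) := by exact_mod_cast heq
  exact h4.symm.le.trans hle

include hdim in
/-- Main vanishing. -/
theorem subsingleton_h1_of_restrict_surjective [IsAlgClosed k] (T : X.Modules) (hT : FlatMod.IsFinLocFree T)
    (D : X.IdealSheafData) (hD : BlowUp.IsEffCartierIdeal D)
    (hD1 : 1 ≤ Module.finrank k (Coh.HH X (ClSub.quotMod D) 0))
    (hsurj : Function.Surjective (SerreDual.hmap k (tensorMap (𝟙 T) (ClSub.toSubscheme D)) 0))
    (E : X.IdealSheafData) (hE : BlowUp.IsEffCartierIdeal E)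
    (hdegE : Module.finrank k (Coh.HH X (ClSub.quotMod E) 0) + 2 * Curv2.genus k X =
      Module.finrank k (Coh.HH X (ClSub.quotMod D) 0)) :
    Subsingleton (Coh.HH X (CohB1.tensorMod T (ClSub.idealMod E)) 1) := by
  haveI := CurveRR24.isLocallyNoetherian_of_proper k (X := X)
  by_contra hne
  have hη : ∀ {I : X.IdealSheafData}, BlowUp.IsEffCartierIdeal I → genericPoint X ∉ (I.support : Set X) :=
    fun hI => VarietyLib.notMem_support_of_effCartier hI fun w hw =>
      ((genericPoint_spec X).specializes trivial).antisymm hw |>.eq.symm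
  have hn : ∀ x : X, IsIntegrallyClosed (X.presheaf.stalk x) := VB5.isIntegrallyClosed' k hdim
  have hIE := FlatMor12.IdealModGen.isInvertible_idealMod E hE
  obtain ⟨r, hr⟩ := VB5.exists_rank hT
  have hA := Clifford24.isFinLocFreeOfRank_tensorMod hr hIE
  obtain ⟨Ω, f, hΩ, hdΩ, hf⟩ := VB5.exists_hom_omega k hdim (SplitP1.isCoh_of_rank hA) hne
  obtain ⟨N, ⟨eN⟩⟩ := VarietyLib.exists_isInverseOf hIE
  have hN : PicF.IsInvertible N := PicM.isInvertible_of_tensor hIE
    (KLLib.isInvertible_of_iso eN.symm AmpleLib.isInvertible_structureModule)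
  obtain ⟨back⟩ := VB5.nonempty_untwist Ω hN hIE (tensorComm N _ ≪≫ eN)
  have hf' : f ≫ back.inv ≠ 0 := fun h => hf (by rw [← cancel_mono back.inv, h, zero_comp])
  obtain ⟨g, hg⟩ := VB5.exists_hom_untwist k hdim hIE hN eN (f ≫ back.inv) hf'
  obtain ⟨backT⟩ := VB5.nonempty_untwist T hIE hN eN
  let φ : T ⟶ CohB1.tensorMod Ω N := backT.inv ≫ g
  have hφ : φ ≠ 0 := fun h => hg (by rw [← cancel_epi backT.inv, comp_zero]; exact h)
  have hΩN := AmpleLib.isInvertible_tensorMod hΩ hN
  obtain ⟨M, p, j, hp, hj, -, hM, hM0⟩ :=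
    VB5.exists_image k hdim hn hr (PicLib.isFinLocFreeOfRank_one hΩN) φ
  obtain ⟨hrk, hMr⟩ := VB5.sub_bundle hdim.le hn (PicLib.isFinLocFreeOfRank_one hΩN) j hM
  have hpos := hM0 hφ
  have hrk1 : VB5.grk M = 1 := by omega
  rw [hrk1] at hMr
  have hMi : PicF.IsInvertible M := VB5.invertible_of_rank_one hMr
  have hdeg := (VB5.full_rank k hdim j hM (VB5.isCoh_of_line hΩN) (hrk1.trans (VB5.rank_one hΩN).symm)).1
  rw [VB5.gdeg_tensor_line k hdim hΩ hN, hdΩ, VB5.gdeg_inverse k hdim hIE hN eN] at hdeg
  have heI : VB5.gdeg k (ClSub.idealMod E) = - (Module.finrank k (Coh.HH X (ClSub.quotMod E) 0) : ℤ) := by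
    have h := euler_idealTwist k hdim.le E (hη hE) (AmpleLib.isInvertible_structureModule (X := X))
    rw [euler_congr k X (tensorComm (ClSub.idealMod E) (Coh.structureModule X) ≪≫ unitTensorIso _)] at h
    rw [VB5.gdeg, VB5.rank_one hIE, Nat.cast_one, one_mul]
    omega
  have hle := le_h0_of_restrict_surjective k hdim (SplitP1.isCoh_of_rank hr) hMi p D (hη hD) hsurj
  have hnt : Nontrivial (Coh.HH X M 0) := Module.nontrivial_of_finrank_pos (R := k) (by omega)
  obtain ⟨h0, -, hh⟩ := deg_nonneg_of_section k hdim.le hMi hnt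
  rw [CurveRR24.h0_structure k] at hh
  rw [VB5.deg_line k hMi] at hh h0
  omega

end Groth.Agent.CurveDual27
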